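import Cfsg.Agent.Lib.LocalEven.OnePointFront.Setup
import Cfsg.Agent.Lib.LocalEven.TIEndgame.PairCore
import Cfsg.Agent.Lib.Involution.Basic
import Cfsg.Agent.Lib.Coprime.Sylow

/-!
# The fusion of a central member with another one

Let `z` be a member central in the maximal 2-subgroup `P` at `a` and `f` another member in `P` with
the largest centraliser in `P`, whose commuting members in `P` are `z`, `f` and `f z`.  If `z` is a
square in that centraliser then `f` or `f z` is one: `f` and `z` are conjugate at `a`, so the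
centraliser grows inside the centraliser of `f`, by an element which would have to fix `z`.
-/

set_option autoImplicit false
set_option linter.style.haveILetI false

namespace CfsgLib.LocalEven.OnePointFront

open MulAction CfsgLib.LocalEven.TIEndgame CfsgLib.Involution

universe u v

variable {G : Type u} {Ω : Type v} [Group G] [Finite G] [MulAction G Ω] [Finite Ω] {D : Set G}

theorem ClosedSetting.not_square_of_fused (h : ClosedSetting D Ω) {a : Ω} (hab : ∃ b : Ω, b ≠ a)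
    {P : Subgroup G} (hP : IsTopTwo P a) {z f : G} (hz : z ∈ dat D a) (hzP : z ∈ P)
    (hzc : ∀ y ∈ P, Commute y z) (hf : f ∈ dat D a) (hfP : f ∈ P) (hfz : f ≠ z)
    (hnc : ∃ y ∈ P, ¬ Commute y f)
    (hmax : ∀ e ∈ D, e ∈ P → e ≠ z → Nat.card ↥(P ⊓ Subgroup.centralizer ({e} : Set G)) ≤
      Nat.card ↥(P ⊓ Subgroup.centralizer ({f} : Set G)))
    (hfour : ∀ e ∈ D, e ∈ P → Commute e f → e = z ∨ e = f ∨ e = f * z)
    (hno : ∀ w ∈ P, Commute w f → w * w ≠ f ∧ w * w ≠ f * z) :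
    ∀ w ∈ P, Commute w f → w * w ≠ z := by
  classical
  intro w hwP hwf hww
  haveI : Fact (Nat.Prime 2) := ⟨Nat.prime_two⟩
  obtain ⟨b, hba⟩ := hab
  obtain ⟨g, hg, hge⟩ := h.toOnePoint.exists_conj_swapCore (Ne.symm hba) hz hf
    (OnePoint.dat_nonempty h.covers b)
  have hga : g • a = a := mem_stabilizer_iff.1 (swapCore_le a b hg).1
  set M := stabilizer G a
  set C := M ⊓ Subgroup.centralizer ({f} : Set G) with hC
  set Q := P ⊓ Subgroup.centralizer ({f} : Set G) with hQ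
  have hQC : Q ≤ C := inf_le_inf_right _ hP.2.1
  have hQ2 : IsPGroup 2 Q := hP.1.to_le inf_le_left
  have hfQ : f ∈ Q :=
    Subgroup.mem_inf.2 ⟨hfP, Subgroup.mem_centralizer_singleton_iff.2 rfl⟩
  have hmemQ : ∀ {y : G}, y ∈ Q → y ∈ P ∧ Commute y f := fun hy =>
    ⟨(Subgroup.mem_inf.1 hy).1, Subgroup.mem_centralizer_singleton_iff.1 (Subgroup.mem_inf.1 hy).2⟩
  have hPg : P.map (MulAut.conj g).toMonoidHom ≤ C := by
    rintro _ ⟨s, hs, rfl⟩
    refine Subgroup.mem_inf.2 ⟨M.mul_mem (M.mul_mem (mem_stabilizer_iff.2 hga) (hP.2.1 hs))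
      (M.inv_mem (mem_stabilizer_iff.2 hga)), Subgroup.mem_centralizer_singleton_iff.2 ?_⟩
    have := (hzc s hs).map (MulAut.conj g).toMonoidHom
    rw [← hge]
    exact this.eq
  -- a conjugate of `P` centralising `f` contains `Q`
  obtain ⟨W, hW⟩ := ((hP.1.map (MulAut.conj g).toMonoidHom).comap_subtype (K := C)).exists_le_sylow
  obtain ⟨k, hk⟩ := Involution.Basic.exists_conj_le W (hQ2.comap_subtype (K := C))
  set U := (W : Subgroup ↥C).map C.subtype |>.map (MulAut.conj (k : G)⁻¹).toMonoidHom with hU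
  have hU2 : IsPGroup 2 U := (W.2.map _).map _
  have hUC : U ≤ C := by
    rintro _ ⟨_, ⟨y, -, rfl⟩, rfl⟩
    exact mul_mem (mul_mem (inv_mem k.2) y.2) (inv_mem (inv_mem k.2))
  have hQU : Q ≤ U := fun y hy => ⟨(k : G) * y * (k : G)⁻¹,
    ⟨k * ⟨y, hQC hy⟩ * k⁻¹, hk _ (show (⟨y, hQC hy⟩ : ↥C) ∈ Q.subgroupOf C from hy), rfl⟩,
    by simp [mul_assoc]⟩
  have hcg : Nat.card (P.map (MulAut.conj g).toMonoidHom) = Nat.card P :=
    Subgroup.card_map_of_injective (MulAut.conj g).injective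
  have hUcard : Nat.card P ≤ Nat.card U := by
    rw [hU, Subgroup.card_map_of_injective (MulAut.conj (k : G)⁻¹).injective, ← hcg]
    exact Subgroup.card_le_of_le fun y hy => ⟨⟨y, hPg hy⟩, hW hy, rfl⟩
  have hlt : Q < U := by
    refine lt_of_le_of_ne hQU fun e => ?_
    obtain ⟨y, hy, hyf⟩ := hnc
    have h1 : Q = P := Subgroup.eq_of_le_of_card_ge inf_le_left (e ▸ hUcard)
    exact hyf (hmemQ (h1 ▸ hy)).2
  obtain ⟨n, ⟨hnU, hnN⟩, hnQ⟩ :=
    SetLike.exists_of_lt (CfsgLib.Coprime.lt_normalizer_inf_of_lt hU2 hlt)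
  have hnQ' : ∀ y ∈ Q, n * y * n⁻¹ ∈ Q := fun y hy => (Subgroup.mem_normalizer_iff.1 hnN y).1 hy
  obtain ⟨hna, hnf⟩ := Subgroup.mem_inf.1 (hUC hnU)
  have hnf' : Commute n f := Subgroup.mem_centralizer_singleton_iff.1 hnf
  have hzQ : z ∈ Q := Subgroup.mem_inf.2
    ⟨hzP, Subgroup.mem_centralizer_singleton_iff.2 (hzc f hfP).symm⟩
  -- it fixes `z`, the only one of the three which is a square in `Q`
  have hnz : n * z * n⁻¹ = z := by
    obtain ⟨h1, h2⟩ := hmemQ (hnQ' z hzQ)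
    rcases hfour _ (h.conj_mem n z hz.1) h1 h2 with e | e | e
    · exact e
    · refine absurd ?_ hfz
      calc f = n⁻¹ * (n * f * n⁻¹) * n := by group
        _ = z := by rw [hnf'.eq, mul_inv_cancel_right, ← e]; group
    · obtain ⟨hwP', hwf'⟩ := hmemQ (hnQ' w (Subgroup.mem_inf.2
        ⟨hwP, Subgroup.mem_centralizer_singleton_iff.2 hwf⟩))
      exact absurd (by rw [← e, ← hww]; group) (hno _ hwP' hwf').2
  -- so a larger 2-group centralises `z` and `f`
  set V := Q ⊔ Subgroup.zpowers n with hV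
  have hVU : V ≤ U := sup_le hQU (Subgroup.zpowers_le.2 hnU)
  have hV2 : IsPGroup 2 V := hU2.to_le hVU
  set C' := M ⊓ Subgroup.centralizer ({z} : Set G) with hC'
  have hVC' : V ≤ C' := by
    refine le_inf (hVU.trans (hUC.trans inf_le_left)) (sup_le (fun y hy =>
      Subgroup.mem_centralizer_singleton_iff.2 (hzc y (hmemQ hy).1)) (Subgroup.zpowers_le.2
      (Subgroup.mem_centralizer_singleton_iff.2 (mul_inv_eq_iff_eq_mul.1 hnz))))
  have hPC' : P ≤ C' := le_inf hP.2.1 fun y hy =>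
    Subgroup.mem_centralizer_singleton_iff.2 (hzc y hy)
  obtain ⟨W', hW'⟩ := (hP.1.comap_subtype (K := C')).exists_le_sylow
  have hW'P : (W' : Subgroup ↥C').map C'.subtype ≤ P :=
    (hP.2.2 _ (W'.2.map _) ((Subgroup.map_subtype_le _).trans inf_le_left)
      (fun y hy => ⟨⟨y, hPC' hy⟩, hW' hy, rfl⟩)).le
  obtain ⟨l, hl⟩ := Involution.Basic.exists_conj_le W' (hV2.comap_subtype (K := C'))
  have hVP : ∀ y ∈ V, (l : G) * y * (l : G)⁻¹ ∈ P := fun y hy =>
    hW'P ⟨_, hl _ (show (⟨y, hVC' hy⟩ : ↥C') ∈ V.subgroupOf C' from hy), rfl⟩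
  set e := (l : G) * f * (l : G)⁻¹ with he
  have heD : e ∈ D := h.conj_mem _ f hf.1
  have hlz : Commute (l : G) z :=
    Subgroup.mem_centralizer_singleton_iff.1 (Subgroup.mem_inf.1 l.2).2
  have hez : e ≠ z := fun e' => hfz (by
    calc f = (l : G)⁻¹ * e * l := by rw [he]; group
      _ = z := by rw [e', mul_assoc, ← hlz.eq, inv_mul_cancel_left])
  have hVf : ∀ y ∈ V, Commute y f := fun y hy =>
    Subgroup.mem_centralizer_singleton_iff.1 (Subgroup.mem_inf.1 (hUC (hVU hy))).2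
  have hle : Nat.card V ≤ Nat.card ↥(P ⊓ Subgroup.centralizer ({e} : Set G)) :=
    Nat.card_le_card_of_injective (fun y : V => (⟨(l : G) * y * (l : G)⁻¹,
      Subgroup.mem_inf.2 ⟨hVP y y.2, Subgroup.mem_centralizer_singleton_iff.2
        ((hVf y y.2).map (MulAut.conj (l : G)).toMonoidHom).eq⟩⟩ :
      ↥(P ⊓ Subgroup.centralizer ({e} : Set G))))
      fun y y' e' => Subtype.ext (mul_left_cancel (mul_right_cancel (congrArg Subtype.val e')))
  have h2 := hle.trans (hmax e heD (hVP f (Subgroup.mem_sup_left hfQ)) hez)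
  exact hnQ ((Subgroup.eq_of_le_of_card_ge le_sup_left h2).ge
    (Subgroup.mem_sup_right (Subgroup.mem_zpowers n)))

end CfsgLib.LocalEven.OnePointFront
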