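import Cfsg.Agent.Lib.LocalEven.OnePointFront.Nonfull.TwoClosed.Fusion
import Cfsg.Agent.Lib.LocalEven.OnePointFront.Nonfull.CyclicTop
import Cfsg.Agent.Lib.LocalEven.OnePointFront.Basic
import Cfsg.Agent.Lib.LocalEven.OnePointFront.Nonfull.Good
import Cfsg.Agent.Lib.TwoGroups.MaximalClass
import Cfsg.Agent.Lib.LocalEven.OnePointFront.Nonfull.TwoLine.Basic
import Cfsg.Agent.Lib.TwoGroups.InvolutionParity
import Cfsg.Agent.Lib.TwoGroups.InvariantFour
import Cfsg.Agent.Lib.Involution.TwoTimesPSL.Transfer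

/-!
# One member on each line, without good point groups

Let `T` be generated by the members in the maximal 2-subgroup `P` at `a`.  If `T` has a multiple of
four solutions of `w * w = 1`, the bad involutions of `P` are odd permutations of the members in `P`
and the members are even.  Otherwise `T` is dihedral and, by fusion, the bad involutions exchange
its two classes of members.  Both contradict transfer.
-/

set_option autoImplicit false
set_option linter.style.haveILetI false

namespace CfsgLib.LocalEven.OnePointFront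

open MulAction CfsgLib.LocalEven.TIEndgame CfsgLib.Involution CfsgLib.TwoGroups

universe u

variable {G : Type u} {Ω : Type u} [Group G] [Finite G] [MulAction G Ω] [Finite Ω] {D : Set G}

/-- No hom of a maximal 2-subgroup to a cyclic group kills the members and no bad involution. -/
theorem ClosedSetting.false_of_hom_top (h : ClosedSetting D Ω) (hgen : Subgroup.closure D = ⊤)
    {a : Ω} {P : Subgroup G} (hP : IsTopTwo P a) (φ : ↥P →* ℤˣ)
    {x : G} (hx : IsBad Ω x) (hxP : x ∈ P)
    (hmem : ∀ d ∈ D, ∀ hd : d ∈ P, φ ⟨d, hd⟩ = 1)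
    (hbad : ∀ (y : G) (hy : y ∈ P), IsBad Ω y → φ ⟨y, hy⟩ ≠ 1) : False := by
  haveI : IsCyclic (↥P ⧸ φ.ker) := isCyclic_of_injective _ (QuotientGroup.kerLift_injective φ)
  refine h.false_of_cyclic_top hgen hP φ.ker hx hxP (fun d hd hdP => hmem d hd hdP) fun g hg => ?_
  obtain ⟨hx2, p, q, hpq, hp, hq⟩ := id hx
  exact hbad _ hg ⟨(Dihedral.orderOf_conj g x).trans hx2, g • p, g • q,
    fun e => hpq (smul_left_cancel g e),
    by rw [← mul_smul, inv_mul_cancel_right, mul_smul, hp],
    by rw [← mul_smul, inv_mul_cancel_right, mul_smul, hq]⟩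

/-- No bad involution moves a member when lines carry one member at each point. -/
theorem ClosedSetting.false_of_two_closed [FaithfulSMul G Ω] (h : ClosedSetting D Ω)
    (hgen : Subgroup.closure D = ⊤) {a : Ω} {P : Subgroup G} (hP : IsTopTwo P a) {x : G}
    (hx : IsBad Ω x) (hxP : x ∈ P) (hmoved : ∃ d ∈ D, d ∈ P ∧ ¬ Commute x d)
    (hone : ∀ v : G, IsBad Ω v → ∀ d ∈ D, d ∈ P → ∀ e ∈ D, e ∈ P → v ∈ P →
      Commute v d → Commute v e → d = e) : False := by
  classical
  haveI : Fact (Nat.Prime 2) := ⟨Nat.prime_two⟩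
  have hab : ∃ b : Ω, b ≠ a := by
    obtain ⟨-, p, q, hpq, -, -⟩ := id hx
    by_contra hall
    push Not at hall
    exact hpq ((hall p).trans (hall q).symm)
  obtain ⟨z, hz, hzc⟩ := h.covers a P hP.1 hP.2.1
  have hzP : z ∈ P := by
    have h2 : IsPGroup 2 ↥(P ⊔ Subgroup.zpowers z) := by
      refine hP.1.to_sup_of_normal_left' ?_ (Subgroup.zpowers_le.2
        (Subgroup.centralizer_le_normalizer _ (Subgroup.mem_centralizer_iff.2 fun y hy =>
          (hzc y hy).eq)))
      exact IsPGroup.of_card_dvd_pow (n := 1) (by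
        rw [Nat.card_zpowers, h.orderOf_eq z hz.1, pow_one])
    have := hP.2.2 _ h2 (sup_le hP.2.1 (Subgroup.zpowers_le.2 (mem_stabilizer_iff.2 hz.2)))
      le_sup_left
    rw [← this]
    exact Subgroup.mem_sup_right (Subgroup.mem_zpowers z)
  have hdat : ∀ {d : G}, d ∈ D → d ∈ P → d ∈ dat D a := fun hd hdP =>
    ⟨hd, mem_stabilizer_iff.1 (hP.2.1 hdP)⟩
  have hzz : z * z = 1 := h.toOnePoint.mul_self hz.1
  have hnotD : ∀ {y : G}, IsBad Ω y → y ∉ D := fun hy hyD => by
    obtain ⟨-, p, q, hpq, hp, hq⟩ := id hy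
    exact hpq (h.fixed_unique _ hyD p q hp hq)
  set T := coreOf D P with hTdef
  have hTP : T ≤ P := coreOf_le D P
  have hT2 : IsPGroup 2 T := hP.1.to_le hTP
  have hTinv : ∀ w ∈ T, w * w = 1 → w ≠ 1 → w ∈ D := fun w hw h2 h1 =>
    h.closed P hP.1 w hw (orderOf_eq_prime (by rw [pow_two]; exact h2) h1)
  have hDT : ∀ {d : G}, d ∈ D → d ∈ P → d ∈ T := fun hd hdP => mem_coreOf hd hdP
  have hTn : ∀ g ∈ P, ∀ w ∈ T, g * w * g⁻¹ ∈ T := fun g hg w hw => h.conj_mem_coreOf hg hw
  obtain ⟨d₀, hd₀, hd₀P, hd₀x⟩ := hmoved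
  have hd₀z : d₀ ≠ z := fun e => hd₀x (e ▸ hzc x hxP)
  set N := Nat.card {w : ↥T | w * w = 1} with hN
  -- either the sign or the classes
  have hcase : 4 ∣ N ∨ ∃ c f : ↥T, InvolutionParity.DihedralPair c f := by
    by_cases hW : ∃ W : Subgroup ↥P, W ≤ T.subgroupOf P ∧ W.Normal ∧ Nat.card W = 4 ∧
        ∀ w ∈ W, w ^ 2 = 1
    · obtain ⟨W, hWT, hWn, hW4, hW2⟩ := hW
      set V : Subgroup ↥T := (W.map P.subtype).subgroupOf T with hV
      have hle : W.map P.subtype ≤ T := by
        rintro _ ⟨w, hw, rfl⟩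
        exact Subgroup.mem_subgroupOf.1 (hWT hw)
      haveI : V.Normal := ⟨fun v hv g => by
        obtain ⟨w, hw, e⟩ := Subgroup.mem_subgroupOf.1 hv
        refine Subgroup.mem_subgroupOf.2 ⟨_, hWn.conj_mem w hw ⟨g, hTP g.2⟩, ?_⟩
        show (g : G) * (w : G) * (g : G)⁻¹ = ((g * v * g⁻¹ : ↥T) : G)
        rw [show (w : G) = v from e]
        push_cast
        rfl⟩
      refine InvolutionParity.four_dvd_or_dihedral hT2 V ?_ fun v hv => ?_
      · rw [hV, Nat.card_congr (Subgroup.subgroupOfEquivOfLe hle).toEquiv,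
          Subgroup.card_map_of_injective P.subtype_injective, hW4]
      · obtain ⟨w, hw, e⟩ := Subgroup.mem_subgroupOf.1 hv
        refine Subtype.ext ?_
        show (v : G) * v = 1
        rw [← e, ← map_mul, ← pow_two, hW2 w hw, map_one]
    · push Not at hW
      haveI : (T.subgroupOf P).Normal :=
        ⟨fun w hw g => Subgroup.mem_subgroupOf.2 (hTn g g.2 w (Subgroup.mem_subgroupOf.1 hw))⟩
      obtain ⟨c, f, k, j, hsh, -⟩ := InvariantFour.exists_shape hP.1 (T.subgroupOf P)
        (fun W h1 h2 h3 h4 => by obtain ⟨w, hw, hw'⟩ := hW W h1 h2 h3; exact hw' (h4 w hw))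
        (e₁ := ⟨z, hzP⟩) (e₂ := ⟨d₀, hd₀P⟩)
        (Subgroup.mem_subgroupOf.2 (hDT hz.1 hzP)) (Subgroup.mem_subgroupOf.2 (hDT hd₀ hd₀P))
        ((Subgroup.orderOf_mk _ _).trans (h.orderOf_eq z hz.1))
        ((Subgroup.orderOf_mk _ _).trans (h.orderOf_eq d₀ hd₀))
        (fun e => hd₀z (congrArg Subtype.val e).symm) (Subtype.ext (hzc d₀ hd₀P).eq.symm)
      have hk := hsh.two_le
      have ho := hsh.order
      haveI : NeZero (2 ^ k) := ⟨by positivity⟩
      -- `T` is generated by involutions, so it is not semidihedral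
      have hj : j = -1 := by
        refine hsh.j_eq.resolve_right fun ⟨hk3, hj⟩ => ?_
        set B := Subgroup.zpowers (c * c) with hB
        have hfB : ∀ b ∈ B, f * b * f⁻¹ ∈ B := by
          intro b hb
          obtain ⟨i, rfl⟩ := Subgroup.mem_zpowers_iff.1 hb
          rw [← conj_zpow, show f * (c * c) * f⁻¹ = f * c * f⁻¹ * (f * c * f⁻¹) by group,
            hsh.act, CyclicMax.pw, ← zpow_add, ← two_mul, zpow_mul, zpow_two]
          exact zpow_mem (zpow_mem (Subgroup.mem_zpowers _) _) _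
        have hfi : f⁻¹ = f := inv_eq_of_mul_eq_one_right hsh.sq_f
        let L : Subgroup ↥P :=
          { carrier := {w | w ∈ B ∨ f * w ∈ B}
            one_mem' := Or.inl B.one_mem
            mul_mem' := by
              rintro v w (hv | hv) (hw | hw)
              · exact Or.inl (mul_mem hv hw)
              · refine Or.inr ?_
                rw [show f * (v * w) = (f * v * f⁻¹) * (f * w) by group]
                exact mul_mem (hfB v hv) hw
              · exact Or.inr (by rw [← mul_assoc]; exact mul_mem hv hw)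
              · refine Or.inl ?_
                have h1 := mul_mem (hfB _ hv) hw
                rwa [show f * (f * v) * f⁻¹ * (f * w) = (f * f) * (v * w) by group, hsh.sq_f,
                  one_mul] at h1
            inv_mem' := by
              rintro v (hv | hv)
              · exact Or.inl (inv_mem hv)
              · refine Or.inr ?_
                have h1 := hfB _ (inv_mem hv)
                rwa [show f * (f * v)⁻¹ * f⁻¹ = f * v⁻¹ * (f⁻¹ * f⁻¹) by group, hfi, hsh.sq_f,
                  mul_one] at h1 }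
        have hsqrt : ∀ i : ZMod (2 ^ k), InvariantFour.red (k := k) (by omega) i = 0 →
            CyclicMax.pw c i ∈ B := by
          intro i hi
          obtain ⟨t, rfl⟩ := InvariantFour.exists_half (by omega) hi
          rw [two_mul, CyclicMax.pw_add ho, CyclicMax.pw,
            ← (Commute.refl c).mul_zpow]
          exact zpow_mem (Subgroup.mem_zpowers _) _
        have hinvol : ∀ w : ↥P, w ∈ T.subgroupOf P → w * w = 1 → w ∈ L := by
          intro w hw hww
          rcases hsh.cover w hw with hw' | hw'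
          · refine Or.inl ?_
            obtain ⟨i, rfl⟩ := InvariantFour.exists_pw ho hw'
            rcases InvariantFour.two_mul_eq_zero (show 1 ≤ k by omega) (x := i)
              (CyclicMax.pw_injective ho (by
                rw [two_mul, CyclicMax.pw_add ho, hww, InvariantFour.pw_zero ho])) with rfl | rfl
            · rw [InvariantFour.pw_zero ho]; exact one_mem _
            · exact hsqrt _ (InvariantFour.red_hh (by omega))
          · refine Or.inr ?_
            obtain ⟨i, hi⟩ := InvariantFour.exists_pw ho hw'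
            rw [hi]
            refine hsqrt i ?_
            by_contra hne
            have e1 : f * CyclicMax.pw c i * f⁻¹ * CyclicMax.pw c i = 1 := by
              rw [← hi, show f * (f * w) * f⁻¹ * (f * w) = (f * f) * (w * w) by group, hsh.sq_f,
                hww, one_mul]
            rw [InvariantFour.pw_mul_conj ho hsh.act, ← CyclicMax.pw_add ho] at e1
            have e2 := CyclicMax.pw_injective ho (e1.trans (InvariantFour.pw_zero ho).symm)
            rw [hj, show (InvariantFour.hh k - 1) * i + i = i * InvariantFour.hh k by ring,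
              InvariantFour.mul_hh (by omega), if_neg hne] at e2
            exact InvariantFour.hh_ne_zero (by omega) e2
        have hTL : T ≤ L.map P.subtype := (Subgroup.closure_le _).2 fun d hd =>
          ⟨⟨d, hd.2⟩, hinvol _ (Subgroup.mem_subgroupOf.2 (hDT hd.1 hd.2))
            (Subtype.ext (h.toOnePoint.mul_self hd.1)), rfl⟩
        obtain ⟨c', hc', hcc⟩ := hTL (Subgroup.mem_subgroupOf.1 hsh.mem_a)
        obtain rfl : c' = c := Subtype.ext hcc
        rcases hc' with hc'' | hc''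
        · obtain ⟨i, hi⟩ := Subgroup.mem_zpowers_iff.1 hc''
          have h1 : c' ^ (2 * i) = c' ^ (1 : ℤ) := by rw [zpow_mul, zpow_two, hi, zpow_one]
          rw [CyclicMax.zpow_eq_iff ho] at h1
          have h2 := congrArg (InvariantFour.red (k := k) (by omega)) h1
          push_cast at h2
          rw [map_mul, map_ofNat, map_one, InvariantFour.two_zero, zero_mul] at h2
          exact zero_ne_one h2
        · refine hsh.notMem ?_
          have h1 : f * c' ∈ Subgroup.zpowers c' :=
            (Subgroup.zpowers_le.2 (mul_mem (Subgroup.mem_zpowers _) (Subgroup.mem_zpowers _))) hc''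
          have h2 := mul_mem h1 (inv_mem (Subgroup.mem_zpowers c'))
          rwa [mul_inv_cancel_right] at h2
      refine Or.inr ⟨⟨c, Subgroup.mem_subgroupOf.1 hsh.mem_a⟩,
        ⟨f, Subgroup.mem_subgroupOf.1 hsh.mem_f⟩, ⟨⟨k, hk, ?_⟩, ?_, ?_, ?_, fun w => ?_⟩⟩
      · rw [Subgroup.orderOf_mk, Subgroup.orderOf_coe, ho]
      · exact Subtype.ext (congrArg (fun v : ↥P => (v : G)) hsh.sq_f)
      · intro hh
        obtain ⟨i, hi⟩ := Subgroup.mem_zpowers_iff.1 hh
        refine hsh.notMem (Subgroup.mem_zpowers_iff.2 ⟨i, Subtype.ext ?_⟩)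
        simpa using congrArg Subtype.val hi
      · refine Subtype.ext ?_
        have h1 : f * c * f⁻¹ = c⁻¹ := by
          rw [hsh.act, hj, CyclicMax.pw_neg ho, InvariantFour.pw_one ho]
        simpa using congrArg (fun v : ↥P => (v : G)) h1
      · rcases hsh.cover ⟨w, hTP w.2⟩ (Subgroup.mem_subgroupOf.2 w.2) with h1 | h1 <;>
          obtain ⟨i, hi⟩ := Subgroup.mem_zpowers_iff.1 h1
        · refine Or.inl (Subgroup.mem_zpowers_iff.2 ⟨i, Subtype.ext ?_⟩)
          simpa using congrArg Subtype.val hi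
        · refine Or.inr (Subgroup.mem_zpowers_iff.2 ⟨i, Subtype.ext ?_⟩)
          simpa using congrArg Subtype.val hi
  rcases hcase with h4 | ⟨cT, fT, hdp⟩
  · -- the sign of `P` on its members
    let Inv := {e : G // e ∈ D ∧ e ∈ P}
    haveI : Fintype Inv := Fintype.ofFinite _
    let act : ↥P → Inv → Inv := fun g e =>
      ⟨(g : G) * e * (g : G)⁻¹, h.conj_mem _ _ e.2.1,
        mul_mem (mul_mem g.2 e.2.2) (inv_mem g.2)⟩
    letI : MulAction ↥P Inv :=
      { smul := act
        one_smul := fun e => Subtype.ext (by show (1 : G) * e * (1 : G)⁻¹ = e; group)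
        mul_smul := fun g k e => Subtype.ext (by
          show (g : G) * k * e * ((g : G) * k)⁻¹ = g * (k * e * (k : G)⁻¹) * (g : G)⁻¹
          group) }
    let φ : ↥P →* Equiv.Perm Inv := MulAction.toPermHom ↥P Inv
    have hfix : ∀ (g : ↥P) (e : Inv), φ g e = e ↔ Commute (g : G) e := fun g e => by
      show g • e = e ↔ _
      rw [Subtype.ext_iff]
      exact mul_inv_eq_iff_eq_mul
    -- solutions commuting with `g`, apart from `1`, are members
    have hcount : ∀ C : Subgroup G, C ≤ T →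
        Nat.card {w : ↥C | w * w = 1} = Nat.card {e : Inv // (e : G) ∈ C} + 1 := by
      intro C hC
      have h1 : Nat.card {e : Inv // (e : G) ∈ C} = Nat.card ({w : ↥C | w * w = 1} \ {1} : Set ↥C) :=
        Nat.card_congr
          { toFun := fun e => ⟨⟨e.1.1, e.2⟩, Subtype.ext (h.toOnePoint.mul_self e.1.2.1), fun e' =>
              Dihedral.ne_one (h.orderOf_eq _ e.1.2.1) (congrArg Subtype.val e')⟩
            invFun := fun w => ⟨⟨(w.1 : G), hTinv _ (hC w.1.2) (congrArg Subtype.val w.2.1)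
              (fun e' => w.2.2 (Subtype.ext e')), hTP (hC w.1.2)⟩, w.1.2⟩
            left_inv := fun _ => rfl
            right_inv := fun _ => rfl }
      rw [h1, Nat.card_coe_set_eq, Nat.card_coe_set_eq,
        Set.ncard_sdiff_singleton_add_one (show (1 : ↥C) ∈ {w : ↥C | w * w = 1} from one_mul 1)
          (Set.toFinite _)]
    have hall : Fintype.card Inv + 1 = N := by
      rw [hN, hcount T le_rfl, ← Nat.card_eq_fintype_card]
      congr 1
      exact (Nat.card_congr (Equiv.subtypeUnivEquiv fun e : Inv => hDT e.2.1 e.2.2)).symm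
    refine h.false_of_hom_top hgen hP (Equiv.Perm.sign.comp φ) hx hxP (fun d hd hdP => ?_)
      fun y hy hyb => ?_
    · show Equiv.Perm.sign (φ ⟨d, hdP⟩) = 1
      by_cases hdz : d = z
      · rw [show φ ⟨d, hdP⟩ = 1 from Equiv.ext fun e =>
          (hfix _ e).2 (show Commute d (e : G) by rw [hdz]; exact (hzc e e.2.2).symm), map_one]
      have hdd := h.toOnePoint.mul_self hd
      have h2 : φ ⟨d, hdP⟩ ^ 2 = 1 := by
        rw [← map_pow, show (⟨d, hdP⟩ : ↥P) ^ 2 = 1 from Subtype.ext
          (by show d ^ 2 = 1; rw [pow_two, hdd]), map_one]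
      set C := T ⊓ Subgroup.centralizer ({d} : Set G) with hC
      have hfp : Fintype.card (Function.fixedPoints (φ ⟨d, hdP⟩)) + 1 =
          Nat.card {w : ↥C | w * w = 1} := by
        rw [hcount C inf_le_left, ← Nat.card_eq_fintype_card]
        congr 1
        refine Nat.card_congr (Equiv.subtypeEquivRight fun e => ?_)
        show φ _ e = e ↔ _
        rw [hfix, hC, Subgroup.mem_inf, Subgroup.mem_centralizer_singleton_iff]
        exact ⟨fun hc => ⟨hDT e.2.1 e.2.2, hc.symm⟩, fun hc => hc.2.symm⟩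
      have hC4 : 4 ∣ Nat.card {w : ↥C | w * w = 1} := by
        set V := TwoLine.four z d hzz hdd (hzc d hdP).symm with hV
        have hVC : V ≤ C := by
          intro v hv
          have hmemC : z ∈ C ∧ d ∈ C :=
            ⟨Subgroup.mem_inf.2 ⟨hDT hz.1 hzP,
              Subgroup.mem_centralizer_singleton_iff.2 (hzc d hdP).symm⟩,
            Subgroup.mem_inf.2 ⟨hDT hd hdP, Subgroup.mem_centralizer_singleton_iff.2 rfl⟩⟩
          rcases TwoLine.mem_four.1 hv with rfl | rfl | rfl | rfl
          exacts [one_mem C, hmemC.1, hmemC.2, mul_mem hmemC.2 hmemC.1]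
        refine InvolutionParity.four_dvd_of_four (V.subgroupOf C) ?_
          (fun v hv => Subtype.ext (TwoLine.four_sq (Subgroup.mem_subgroupOf.1 hv)))
          fun w _ v hv => Subtype.ext ?_
        · rw [Nat.card_congr (Subgroup.subgroupOfEquivOfLe hVC).toEquiv,
            show Nat.card V = Nat.card ({1, z, d, d * z} : Set G) from
              Nat.card_congr (Equiv.subtypeEquivRight fun v => by
                rw [hV, TwoLine.mem_four]
                simp),
            Nat.card_coe_set_eq]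
          have hz1 : z ≠ 1 := Dihedral.ne_one (h.orderOf_eq z hz.1)
          have hd1 : d ≠ 1 := Dihedral.ne_one (h.orderOf_eq d hd)
          have n1 : d * z ≠ 1 := fun e => hdz (by
            rw [eq_inv_of_mul_eq_one_left e, inv_eq_of_mul_eq_one_right hzz])
          have n2 : d * z ≠ z := fun e => hd1 (mul_eq_right.1 e)
          have n3 : d ≠ d * z := fun e => hz1 (mul_eq_left.1 e.symm)
          rw [Set.ncard_insert_of_notMem (by simp [hz1.symm, hd1.symm, n1.symm]),
            Set.ncard_insert_of_notMem (by simp [Ne.symm hdz, n2.symm]),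
            Set.ncard_insert_of_notMem (by simp [n3]), Set.ncard_singleton]
        · have hwd : Commute (w : G) d :=
            Subgroup.mem_centralizer_singleton_iff.1 (Subgroup.mem_inf.1 w.2).2
          have hwz : Commute (w : G) z := hzc _ (hTP (Subgroup.mem_inf.1 w.2).1)
          rcases TwoLine.mem_four.1 (Subgroup.mem_subgroupOf.1 hv) with e | e | e | e <;>
            push_cast <;> rw [e]
          exacts [(Commute.one_right _).eq, hwz.eq, hwd.eq, (hwd.mul_right hwz).eq]
      rw [Equiv.Perm.sign_of_pow_two_eq_one h2]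
      obtain ⟨m, hm⟩ := h4
      obtain ⟨l, hl⟩ := hC4
      rw [show (Fintype.card Inv - Fintype.card (Function.fixedPoints (φ ⟨d, hdP⟩))) / 2 =
        2 * (m - l) by omega, pow_mul]
      simp
    · show Equiv.Perm.sign (φ ⟨y, hy⟩) ≠ 1
      have hy2 : y * y = 1 := Dihedral.mul_self hyb.1
      have h2 : φ ⟨y, hy⟩ ^ 2 = 1 := by
        rw [← map_pow, show (⟨y, hy⟩ : ↥P) ^ 2 = 1 from Subtype.ext
          (by show y ^ 2 = 1; rw [pow_two, hy2]), map_one]
      have hfp : Fintype.card (Function.fixedPoints (φ ⟨y, hy⟩)) = 1 := by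
        rw [Fintype.card_eq_one_iff]
        refine ⟨⟨⟨z, hz.1, hzP⟩, (hfix _ _).2 (hzc y hy)⟩, fun e => Subtype.ext (Subtype.ext ?_)⟩
        exact hone y hyb _ e.1.2.1 e.1.2.2 z hz.1 hzP hy ((hfix _ _).1 e.2) (hzc y hy)
      rw [Equiv.Perm.sign_of_pow_two_eq_one h2, hfp]
      obtain ⟨m, hm⟩ := h4
      rw [show (Fintype.card Inv - 1) / 2 = 2 * (m - 1) + 1 by omega, pow_succ, pow_mul]
      simp
  -- the dihedral case: the classes of members
  obtain ⟨⟨k, hk, ho⟩, -, -, -, -⟩ := id hdp
  set c : G := (cT : G) with hc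
  set A := Subgroup.zpowers c with hA
  have hoc : orderOf c = 2 ^ k := (Subgroup.orderOf_coe cT).trans ho
  have hcT : c ∈ T := cT.2
  have hAT : A ≤ T := Subgroup.zpowers_le.2 hcT
  have hcov : ∀ w ∈ T, w ∈ A ∨ (fT : G) * w ∈ A := by
    intro w hw
    rcases hdp.cover ⟨w, hw⟩ with h1 | h1 <;> obtain ⟨i, hi⟩ := Subgroup.mem_zpowers_iff.1 h1
    · exact Or.inl (Subgroup.mem_zpowers_iff.2 ⟨i, by simpa [hc] using congrArg Subtype.val hi⟩)
    · exact Or.inr (Subgroup.mem_zpowers_iff.2 ⟨i, by simpa [hc] using congrArg Subtype.val hi⟩)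
  have hinv0 : (fT : G) * c * (fT : G)⁻¹ = c⁻¹ := by
    simpa [hc] using congrArg Subtype.val hdp.inv
  have hff0 : (fT : G) * fT = 1 := by simpa using congrArg Subtype.val hdp.sq_f
  -- every element of `T` outside `A` is an involution inverting `A`
  have hout : ∀ w ∈ T, w ∉ A → w * w = 1 ∧ ∀ i ∈ A, w * i * w⁻¹ = i⁻¹ := by
    intro w hw hwA
    obtain ⟨i, hi⟩ := Subgroup.mem_zpowers_iff.1 ((hcov w hw).resolve_left hwA)
    have hw' : w = (fT : G) * c ^ i := by rw [hi, ← mul_assoc, hff0, one_mul]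
    have hfi : (fT : G)⁻¹ = fT := inv_eq_of_mul_eq_one_right hff0
    have hcj : ∀ j : ℤ, (fT : G) * c ^ j * (fT : G)⁻¹ = (c ^ j)⁻¹ := fun j => by
      rw [← conj_zpow, hinv0, inv_zpow]
    refine ⟨?_, fun u hu => ?_⟩
    · rw [hw', show (fT : G) * c ^ i * ((fT : G) * c ^ i) =
        (fT : G) * c ^ i * (fT : G) * c ^ i by group]
      nth_rewrite 2 [← hfi]
      rw [hcj, inv_mul_cancel]
    · obtain ⟨j, rfl⟩ := Subgroup.mem_zpowers_iff.1 hu
      rw [hw', show (fT : G) * c ^ i * c ^ j * ((fT : G) * c ^ i)⁻¹ =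
        (fT : G) * c ^ j * (fT : G)⁻¹ by group, hcj]
  have hc4 : c * c ≠ 1 := by
    intro e
    have h1 : orderOf c ∣ 2 := orderOf_dvd_of_pow_eq_one (by rw [pow_two]; exact e)
    rw [hoc] at h1
    have := Nat.le_of_dvd two_pos h1
    have : 2 ^ 2 ≤ 2 ^ k := Nat.pow_le_pow_right two_pos hk
    omega
  have hnorm : ∀ g ∈ P, ∀ i ∈ A, g * i * g⁻¹ ∈ A := by
    intro g hg i hi
    obtain ⟨j, rfl⟩ := Subgroup.mem_zpowers_iff.1 hi
    rw [← conj_zpow]
    refine zpow_mem ?_ j
    by_contra hne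
    have h1 := (hout _ (hTn g hg c hcT) hne).1
    rw [show g * c * g⁻¹ * (g * c * g⁻¹) = g * (c * c) * g⁻¹ by group, conj_eq_one_iff] at h1
    exact hc4 h1
  obtain ⟨m, hm⟩ : ∃ m, orderOf c = 2 * m := ⟨2 ^ (k - 1), by
    rw [hoc, ← pow_succ']; congr 1; omega⟩
  have huniq : ∀ w ∈ A, w * w = 1 → w ≠ 1 → w = c ^ m := fun w hw h2 h1 =>
    MaximalClass.involution_eq_pow hm hw h2 h1
  have hzA : z ∈ A := by
    by_contra hne
    have h1 := (hout z (hDT hz.1 hzP) hne).2 c (Subgroup.mem_zpowers c)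
    rw [← (hzc c (hTP hcT)).eq, mul_inv_cancel_right, ← mul_eq_one_iff_eq_inv] at h1
    exact hc4 h1
  have hz1 : z ≠ 1 := Dihedral.ne_one (h.orderOf_eq z hz.1)
  have hmemA : ∀ d ∈ D, d ∈ A → d = z := fun d hd hdA =>
    (huniq d hdA (h.toOnePoint.mul_self hd) (Dihedral.ne_one (h.orderOf_eq d hd))).trans
      (huniq z hzA hzz hz1).symm
  -- the member with the largest centraliser
  obtain ⟨f, ⟨hfD, hfP, hfz⟩, hfmax⟩ := Set.exists_max_image
    {e : G | e ∈ D ∧ e ∈ P ∧ e ≠ z}
    (fun e => Nat.card ↥(P ⊓ Subgroup.centralizer ({e} : Set G))) (Set.toFinite _)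
    ⟨d₀, hd₀, hd₀P, hd₀z⟩
  have hfT := hDT hfD hfP
  have hfA : f ∉ A := fun hh => hfz (hmemA f hfD hh)
  obtain ⟨hff, hfinv⟩ := hout f hfT hfA
  have hfi : f⁻¹ = f := inv_eq_of_mul_eq_one_right hff
  have hcovf : ∀ w ∈ T, w ∉ A → w * f ∈ A := by
    intro w hw hwA
    by_contra hne
    have h1 := (hout _ (mul_mem hw hfT) hne).1
    obtain ⟨i, hi⟩ := Subgroup.mem_zpowers_iff.1 ((hcov w hw).resolve_left hwA)
    obtain ⟨j, hj⟩ := Subgroup.mem_zpowers_iff.1 ((hcov f hfT).resolve_left hfA)
    refine hne ?_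
    rw [← inv_eq_of_mul_eq_one_right (hout w hw hwA).1,
      show w⁻¹ * f = ((fT : G) * w)⁻¹ * ((fT : G) * f) by group, ← hi, ← hj]
    exact mul_mem (inv_mem (zpow_mem (Subgroup.mem_zpowers c) i))
      (zpow_mem (Subgroup.mem_zpowers c) j)
  have hCf : ∀ w ∈ T, Commute w f → w = 1 ∨ w = z ∨ w = f ∨ w = f * z := by
    intro w hw hwf
    have key : ∀ u ∈ A, Commute u f → u = 1 ∨ u = z := by
      intro u hu huf
      have h1 := hfinv u hu
      rw [← huf.eq, mul_inv_cancel_right, ← mul_eq_one_iff_eq_inv] at h1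
      by_cases h2 : u = 1
      · exact Or.inl h2
      · exact Or.inr ((huniq u hu h1 h2).trans (huniq z hzA hzz hz1).symm)
    by_cases hwA : w ∈ A
    · rcases key w hwA hwf with e | e <;> simp [e]
    · rcases key _ (hcovf w hw hwA) (hwf.mul_left (Commute.refl f)) with e | e
      · right; right; left
        rw [eq_inv_of_mul_eq_one_left e, hfi]
      · right; right; right
        rw [show w = w * f * f by rw [mul_assoc, hff, mul_one], e, (hzc f hfP).eq]
  -- `f` and `f z` are not squares in the centraliser of `f`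
  have hnosq : ∀ w ∈ P, Commute w f → w * w ≠ f ∧ w * w ≠ f * z := by
    intro w hw _
    obtain ⟨s, hs⟩ := Subgroup.mem_zpowers_iff.1 (hnorm w hw c (Subgroup.mem_zpowers c))
    have key : ∀ e : G, e * c * e⁻¹ = c⁻¹ → w * w ≠ e := by
      intro e he hww
      have h1 : c ^ (s * s + 1) = 1 := by
        have h2 : w * w * c * (w * w)⁻¹ = c ^ (s * s) := by
          rw [show w * w * c * (w * w)⁻¹ = w * (w * c * w⁻¹) * w⁻¹ by group, ← hs, ← conj_zpow,
            ← hs, zpow_mul]
        rw [hww, he] at h2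
        rw [zpow_add, zpow_one, ← h2, inv_mul_cancel]
      rw [← orderOf_dvd_iff_zpow_eq_one, hoc] at h1
      have h4 : (4 : ℤ) ∣ s * s + 1 := by
        refine dvd_trans ?_ h1
        exact_mod_cast Nat.pow_dvd_pow 2 hk
      obtain ⟨q, hq⟩ := h4
      rcases Int.even_or_odd' s with ⟨t, rfl | rfl⟩ <;> ring_nf at hq <;> omega
    refine ⟨key f (hfinv c (Subgroup.mem_zpowers c)), key _ ?_⟩
    rw [show f * z * c * (f * z)⁻¹ = f * (z * c * z⁻¹) * f⁻¹ by group,
      ← (hzc c (hTP hcT)).eq, mul_inv_cancel_right]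
    exact hfinv c (Subgroup.mem_zpowers c)
  have hsquare := h.not_square_of_fused hab hP hz hzP hzc (hdat hfD hfP) hfP hfz
    ⟨x, hxP, fun hc' => hfz (hone x hx f hfD hfP z hz.1 hzP hxP hc' (hzc x hxP))⟩
    (fun e he heP hez => hfmax e ⟨he, heP, hez⟩)
    (fun e he heP hef => (hCf e (hDT he heP) hef).resolve_left (Dihedral.ne_one (h.orderOf_eq e he)))
    hnosq
  -- the class preservers
  set B := Subgroup.zpowers (c * c) with hB
  have hBA : B ≤ A := Subgroup.zpowers_le.2 (mul_mem (Subgroup.mem_zpowers c) (Subgroup.mem_zpowers c))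
  have hsqB : ∀ u ∈ A, u * u ∈ B := by
    intro u hu
    obtain ⟨i, rfl⟩ := Subgroup.mem_zpowers_iff.1 hu
    rw [← (Commute.refl c).mul_zpow]
    exact zpow_mem (Subgroup.mem_zpowers _) i
  have hBn : ∀ g ∈ P, ∀ u ∈ B, g * u * g⁻¹ ∈ B := by
    intro g hg u hu
    obtain ⟨i, rfl⟩ := Subgroup.mem_zpowers_iff.1 hu
    rw [← conj_zpow, show g * (c * c) * g⁻¹ = g * c * g⁻¹ * (g * c * g⁻¹) by group]
    exact zpow_mem (hsqB _ (hnorm g hg c (Subgroup.mem_zpowers c))) i
  have hoddB : ∀ u ∈ A, u ∉ B → ∃ i : ℤ, u = c * (c * c) ^ i := by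
    intro u hu huB
    obtain ⟨i, rfl⟩ := Subgroup.mem_zpowers_iff.1 hu
    rcases Int.even_or_odd' i with ⟨t, rfl | rfl⟩
    · refine absurd ?_ huB
      rw [zpow_mul, zpow_two]
      exact zpow_mem (Subgroup.mem_zpowers _) t
    · exact ⟨t, by rw [add_comm, zpow_add, zpow_one, zpow_mul, zpow_two]⟩
  have hmulB : ∀ u ∈ A, ∀ v ∈ A, (u * v ∈ B ↔ (u ∈ B ↔ v ∈ B)) := by
    intro u hu v hv
    by_cases hub : u ∈ B
    · simp [B.mul_mem_cancel_left hub, hub]
    · by_cases hvb : v ∈ B
      · simp [B.mul_mem_cancel_right hvb, hub, hvb]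
      · obtain ⟨i, hi⟩ := hoddB u hu hub
        obtain ⟨j, hj⟩ := hoddB v hv hvb
        have hcc : Commute c ((c * c) ^ i) := ((Commute.refl c).mul_right (Commute.refl c)).zpow_right i
        have : u * v ∈ B := by
          rw [hi, hj, show c * (c * c) ^ i * (c * (c * c) ^ j) =
            c * ((c * c) ^ i * c) * (c * c) ^ j by group, ← hcc.eq,
            show c * (c * (c * c) ^ i) * (c * c) ^ j = c * c * (c * c) ^ i * (c * c) ^ j by group]
          exact mul_mem (mul_mem (Subgroup.mem_zpowers _) (zpow_mem (Subgroup.mem_zpowers _) i))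
            (zpow_mem (Subgroup.mem_zpowers _) j)
        simp [this, hub, hvb]
  have hq : ∀ g ∈ P, g * f * g⁻¹ * f ∈ A := by
    intro g hg
    refine hcovf _ (hTn g hg f hfT) fun hh => hfA ?_
    have := hnorm g⁻¹ (inv_mem hg) _ hh
    rwa [show g⁻¹ * (g * f * g⁻¹) * g⁻¹⁻¹ = f by group] at this
  let χ : ↥P →* ℤˣ := MonoidHom.mk' (fun g => if (g : G) * f * (g : G)⁻¹ * f ∈ B then 1 else -1)
    fun g g' => by
      have e : ((g * g' : ↥P) : G) * f * ((g * g' : ↥P) : G)⁻¹ * f =
          ((g : G) * ((g' : G) * f * (g' : G)⁻¹ * f) * (g : G)⁻¹) *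
            ((g : G) * f * (g : G)⁻¹ * f) := by
        push_cast
        rw [show (g : G) * ((g' : G) * f * (g' : G)⁻¹ * f) * (g : G)⁻¹ *
          ((g : G) * f * (g : G)⁻¹ * f) =
          (g : G) * g' * f * ((g : G) * g')⁻¹ * (g : G) * (f * f) * (g : G)⁻¹ * f by group, hff]
        group
      have hiff : (g : G) * ((g' : G) * f * (g' : G)⁻¹ * f) * (g : G)⁻¹ ∈ B ↔
          (g' : G) * f * (g' : G)⁻¹ * f ∈ B := ⟨fun hh => by
            have := hBn _ (inv_mem g.2) _ hh
            rwa [show (g : G)⁻¹ * ((g : G) * ((g' : G) * f * (g' : G)⁻¹ * f) * (g : G)⁻¹) *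
              (g : G)⁻¹⁻¹ = (g' : G) * f * (g' : G)⁻¹ * f by group] at this, hBn _ g.2 _⟩
      try dsimp only
      rw [e]
      simp only [hmulB _ (hnorm _ g.2 _ (hq _ g'.2)) _ (hq _ g.2), hiff]
      by_cases h1 : (g : G) * f * (g : G)⁻¹ * f ∈ B <;>
        by_cases h2 : (g' : G) * f * (g' : G)⁻¹ * f ∈ B <;> simp [h1, h2]
  have hχ : ∀ (g : G) (hg : g ∈ P), χ ⟨g, hg⟩ = 1 ↔ g * f * g⁻¹ * f ∈ B := fun g hg => by
    show (if g * f * g⁻¹ * f ∈ B then (1 : ℤˣ) else -1) = 1 ↔ _
    by_cases h1 : g * f * g⁻¹ * f ∈ B <;> simp [h1]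
  refine h.false_of_hom_top hgen hP χ hx hxP (fun d hd hdP => (hχ d hdP).2 ?_)
    fun y hy hyb => ?_
  · have hdT := hDT hd hdP
    have hdd := h.toOnePoint.mul_self hd
    by_cases hdA : d ∈ A
    · rw [hmemA d hd hdA, ← (hzc f hfP).eq, mul_inv_cancel_right, hff]
      exact one_mem _
    · have h1 := hsqB _ (hcovf d hdT hdA)
      rw [inv_eq_of_mul_eq_one_right hdd]
      rwa [show d * f * d * f = d * f * (d * f) by group]
  · rw [Ne, hχ y hy]
    intro hyB
    obtain ⟨i, hi⟩ := Subgroup.mem_zpowers_iff.1 hyB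
    have hu : c ^ i ∈ A := zpow_mem (Subgroup.mem_zpowers c) i
    set u := c ^ i with hu'
    have huu : u * u = y * f * y⁻¹ * f := by rw [hu', ← (Commute.refl c).mul_zpow, hi]
    set y' := u⁻¹ * y with hy'
    have hy'P : y' ∈ P := mul_mem (inv_mem (hTP (hAT hu))) hy
    have hfu : f * u = u⁻¹ * f := by
      rw [← hfinv u hu, inv_mul_cancel_right]
    have hy'f : Commute y' f := by
      refine mul_inv_eq_iff_eq_mul.1 ?_
      calc y' * f * y'⁻¹ = u⁻¹ * (y * f * y⁻¹ * f) * f⁻¹ * u := by rw [hy']; group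
        _ = u * (f * u) := by rw [← huu, hfi]; group
        _ = f := by rw [hfu, mul_inv_cancel_left]
    have hyy : y * y = 1 := Dihedral.mul_self hyb.1
    have hsqA : y' * y' ∈ A := by
      rw [show y' * y' = u⁻¹ * (y * u⁻¹ * y⁻¹) * (y * y) by rw [hy']; group, hyy, mul_one]
      exact mul_mem (inv_mem hu) (hnorm y hy _ (inv_mem hu))
    rcases hCf _ (hAT hsqA) (hy'f.mul_left hy'f) with e | e | e | e
    · -- a bad involution commuting with two members
      have hy'T : y' ∉ T := fun hh => hnotD hyb (hTinv y (by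
        have := mul_mem (hAT hu) hh
        rwa [hy', mul_inv_cancel_left] at this) hyy (Dihedral.ne_one hyb.1))
      have h2 : orderOf y' = 2 := orderOf_eq_prime (by rw [pow_two]; exact e)
        fun e1 => hy'T (e1 ▸ one_mem T)
      rcases h.mem_or_bad h2 (mem_stabilizer_iff.1 (hP.2.1 hy'P)) with hD | hb
      · exact hy'T (hDT hD hy'P)
      · exact hfz (hone y' hb f hfD hfP z hz.1 hzP hy'P hy'f (hzc y' hy'P))
    · exact hsquare y' hy'P hy'f e
    · exact (hnosq y' hy'P hy'f).1 e
    · exact (hnosq y' hy'P hy'f).2 e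

end CfsgLib.LocalEven.OnePointFront
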